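import Cfsg.Agent.Lib.Recog.SporBound.Sound
import Cfsg.Agent.Lib.Recog.SporBound.S3344K.Tree0

set_option autoImplicit false
set_option maxRecDepth 20000

/-! Generated closure certificate: K over N(E) in S3344 (owner: helper25). -/

namespace CfsgLib.Recog.SporBound.S3344K
open CfsgLib.Recog.SporBound

noncomputable def factTree : Q (ℕ) := (.node ft9 ft19 ft29 ft39)
noncomputable def nodeTree : Q (ℕ) := ct0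
noncomputable def stepTree : Q (List ℕ) := (.node st11 st23 st34 st45)
noncomputable def finalTree : Q (List ℕ) := (.node et0 et1 (.leaf []) (.leaf []))

/-- The certificate. -/
noncomputable def cert : Cert where
  n := 15
  nd := 1931
  nf := 4568
  kl := [0, 1, 2, 3, 4, 5]
  facts := factTree
  cn := nodeTree
  steps := stepTree
  finals := finalTree
  rels := [[0, 0], [1, 1], [2, 2], [3, 3], [4, 4], [5, 5], [1, 0, 1, 0, 1, 0], [0, 1, 2, 1, 2, 0, 2], [0, 1, 3, 1, 3, 0, 3], [2, 0, 2, 4, 0, 3, 2, 0, 3, 0, 2, 0, 4], [3, 4, 0, 2, 0, 3, 0, 4, 0, 3, 2, 0, 4], [4, 3, 0, 4, 1, 4, 3, 0, 4, 1, 4, 3, 0, 4, 1, 4, 3, 0, 4, 1, 4, 3, 0, 4, 1, 4, 3, 0, 4, 1, 4, 3, 0, 4, 1], [1, 4, 1, 2, 3, 4, 1, 4, 1, 2, 3, 4, 1, 4, 1, 2, 3, 4, 1, 4, 1, 2, 3, 4, 1, 4, 1, 2, 3, 4, 1, 4, 1, 2,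 3, 4, 1, 4, 1, 2, 3, 4], [1, 0, 1, 0, 1, 0], [0, 1, 2, 1, 2, 0, 2], [0, 1, 3, 1, 3, 0, 3], [3, 0, 3, 5, 0, 3, 2, 0, 2, 0, 3, 0, 5], [3, 0, 3, 5, 2, 0, 5, 3, 0, 2, 5, 3, 0, 2], [1, 5, 1, 0, 5, 1, 5, 1, 0, 5, 1, 5, 1, 0, 5, 1, 5, 1, 0, 5, 1, 5, 1, 0, 5, 1, 5, 1, 0, 5, 1, 5, 1, 0, 5], [2, 1, 5, 2, 3, 5, 2, 1, 5, 2, 3, 5, 2, 1, 5, 2, 3, 5, 2, 1, 5, 2, 3, 5, 2, 1, 5, 2, 3, 5, 2, 1, 5, 2, 3, 5, 2, 1, 5, 2, 3, 5], [5, 4, 5, 4], [5, 2, 4, 2, 5, 4], [4, 3, 5, 4, 5, 3, 4, 3], [4, 5, 2, 5, 2, 5, 4, 2], [0, 2, 0, 4, 2, 5, 4, 0, 5], [0, 2, 0, 4, 5, 4, 0, 5, 2], [0, 3, 0, 5, 3, 5, 4, 0, 4], [0, 3, 0, 5, 4, 5, 0, 4, 3], [0, 4, 0, 5, 3, 5, 0, 3, 4], [0, 4, 0, 5, 4, 5, 3, 0, 3], [0, 5, 0, 4, 2, 4, 0, 2, 5], [0, 5, 0, 4, 5, 4, 2, 0, 2], [2, 4, 0, 2, 0, 5, 0, 5, 4], [3, 4, 5, 0,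 4, 0, 3, 0, 5], [3, 4, 5, 2, 5, 2, 5, 4, 3, 2], [4, 0, 2, 5, 2, 0, 2, 5, 4, 2], [4, 0, 3, 5, 4, 5, 3, 0, 4, 3], [4, 0, 5, 2, 5, 0, 2, 5, 4, 2], [4, 3, 0, 5, 4, 5, 3, 4, 0, 3], [4, 3, 5, 0, 4, 3, 4, 0, 5, 3]]
  subs := [[0], [1], [2], [3], [4]]

/-- Chains of the traced words. -/
noncomputable def closers : List ℕ := []

end CfsgLib.Recog.SporBound.S3344K
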